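import Groth.Prelude.Def_EGA41
import Mathlib.RingTheory.Kaehler.Basic
import Mathlib.LinearAlgebra.TensorProduct.RightExactness
import Mathlib.LinearAlgebra.Dimension.RankNullity
import Mathlib.LinearAlgebra.Dimension.Constructions
import Mathlib.RingTheory.Flat.Basic

/-!
# Kernels of maps of imperfection modules
-/

set_option autoImplicit false

universe u u' w

open TensorProduct

namespace Groth.Agent.Lib.Imperf

section General

variable {R : Type u} {S : Type u'} {A : Type w} [CommRing R] [CommRing S] [CommRing A]
  [Algebra R S] [Algebra R A] [Algebra S A] [IsScalarTower R S A]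

/-- The kernel of `Ω_{A/R} → Ω_{A/S}` is spanned by the differentials of the elements of `S`. -/
theorem ker_map_eq_span :
    LinearMap.ker (KaehlerDifferential.map R S A A) =
      Submodule.span A (Set.range fun s : S => KaehlerDifferential.D R A (algebraMap S A s)) := by
  refine le_antisymm (fun x hx => ?_) (Submodule.span_le.2 ?_)
  · obtain ⟨y, rfl⟩ := (KaehlerDifferential.exact_mapBaseChange_map R S A x).1 hx
    induction y using TensorProduct.induction_on with
    | zero => simp
    | add a b ha hb => rw [map_add]; exact add_mem (ha (by
        simp [(KaehlerDifferential.exact_mapBaseChange_map R S A).apply_apply_eq_zero])) (hb (by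
        simp [(KaehlerDifferential.exact_mapBaseChange_map R S A).apply_apply_eq_zero]))
    | tmul a ω =>
      rw [KaehlerDifferential.mapBaseChange_tmul]
      refine Submodule.smul_mem _ _ ?_
      have hω : ω ∈ Submodule.span S (Set.range (KaehlerDifferential.D R S)) := by
        rw [KaehlerDifferential.span_range_derivation]; trivial
      clear hx
      induction hω using Submodule.span_induction with
      | mem v hv =>
        obtain ⟨s, rfl⟩ := hv
        rw [KaehlerDifferential.map_D]
        exact Submodule.subset_span ⟨s, rfl⟩
      | zero => simp
      | add p q _ _ hp hq => rw [map_add]; exact add_mem hp hq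
      | smul c p _ hp => rw [map_smul, ← algebraMap_smul A c]; exact Submodule.smul_mem _ _ hp
  · rintro _ ⟨s, rfl⟩
    rw [SetLike.mem_coe, LinearMap.mem_ker, KaehlerDifferential.map_D, Algebra.algebraMap_self_apply,
      Derivation.map_algebraMap]

variable (L : Type w) [CommRing L] [Algebra A L]

/-- The same after base change. -/
theorem ker_map_baseChange :
    LinearMap.ker ((KaehlerDifferential.map R S A A).baseChange L) =
      Submodule.span L (Set.range fun s : S =>
        (1 : L) ⊗ₜ[A] KaehlerDifferential.D R A (algebraMap S A s)) := by
  refine le_antisymm (fun x hx => ?_) (Submodule.span_le.2 ?_)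
  · have hex := lTensor_exact L (LinearMap.exact_subtype_ker_map (KaehlerDifferential.map R S A A))
      (KaehlerDifferential.map_surjective R S A)
    obtain ⟨y, rfl⟩ := (hex x).1 hx
    clear hx
    induction y using TensorProduct.induction_on with
    | zero => simp
    | add a b ha hb => rw [map_add]; exact add_mem ha hb
    | tmul l v =>
      rw [LinearMap.lTensor_tmul, ← mul_one l, ← smul_eq_mul, ← TensorProduct.smul_tmul']
      refine Submodule.smul_mem _ _ ?_
      have hv : (v : Ω[A⁄R]) ∈ Submodule.span A
          (Set.range fun s : S => KaehlerDifferential.D R A (algebraMap S A s)) :=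
        ker_map_eq_span (R := R) (S := S) (A := A) ▸ v.2
      rw [Submodule.subtype_apply]
      generalize (v : Ω[A⁄R]) = w at hv
      induction hv using Submodule.span_induction with
      | mem v hv => obtain ⟨s, rfl⟩ := hv; exact Submodule.subset_span ⟨s, rfl⟩
      | zero => simp
      | add p q _ _ hp hq => rw [TensorProduct.tmul_add]; exact add_mem hp hq
      | smul c p _ hp =>
        rw [TensorProduct.tmul_smul, ← algebraMap_smul L c]
        exact Submodule.smul_mem _ _ hp
  · rintro _ ⟨s, rfl⟩
    rw [SetLike.mem_coe, LinearMap.mem_ker, LinearMap.baseChange_tmul, KaehlerDifferential.map_D,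
      Algebra.algebraMap_self_apply, Derivation.map_algebraMap, TensorProduct.tmul_zero]

end General

theorem map_map {R : Type u} {S : Type u'} {T : Type*} {A : Type w} [CommRing R] [CommRing S]
    [CommRing T] [CommRing A] [Algebra R A] [Algebra S A] [Algebra T A] [Algebra R S] [Algebra R T]
    [Algebra S T] [IsScalarTower R S A] [IsScalarTower R T A] [IsScalarTower S T A] (x : Ω[A⁄R]) :
    KaehlerDifferential.map S T A A (KaehlerDifferential.map R S A A x) =
      KaehlerDifferential.map R T A A x := by
  have hx : x ∈ Submodule.span A (Set.range (KaehlerDifferential.D R A)) := by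
    rw [KaehlerDifferential.span_range_derivation]; trivial
  induction hx using Submodule.span_induction with
  | mem v hv => obtain ⟨a, rfl⟩ := hv; simp only [KaehlerDifferential.map_D, Algebra.algebraMap_self_apply]
  | zero => simp
  | add p q _ _ hp hq => simp only [map_add, hp, hq]
  | smul c p _ hp => simp only [map_smul, hp]

/-- Flat base change commutes with kernels. -/
theorem exact_baseChange {L M N N' : Type w} [CommRing L] [CommRing M] [Algebra L M]
    [Module.Flat L M] [AddCommGroup N] [Module L N] [AddCommGroup N'] [Module L N']
    (g : N →ₗ[L] N') (P : Submodule L N) (hP : LinearMap.ker g = P) :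
    Function.Exact (P.subtype.baseChange M) (g.baseChange M) := by
  subst hP
  exact fun y => Module.Flat.lTensor_exact M (LinearMap.exact_subtype_ker_map g) y

end Groth.Agent.Lib.Imperf
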